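import Groth.Prelude.Def_EtBase
import Groth.Prelude.Def_EtCore
import Groth.Agent.EtCechLib.Etale
import Groth.Agent.FEtLib.EqLocus
import Mathlib.FieldTheory.IsSepClosed
import Mathlib.RingTheory.Unramified.LocalStructure
import Mathlib.AlgebraicGeometry.Morphisms.QuasiFinite

/-!
# Affine schemes with closed points and separably closed residue fields
-/

set_option autoImplicit false
set_option linter.all false
set_option backward.isDefEq.respectTransparency.types false
set_option backward.isDefEq.respectTransparency false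
set_option backward.defeqAttrib.useBackward true
set_option synthInstance.maxHeartbeats 400000
set_option maxHeartbeats 1000000

universe u

open CategoryTheory Limits AlgebraicGeometry Opposite

namespace Groth.Agent.EtZeroDim

/-- In a ring whose primes are all maximal, basic opens are closed. -/
theorem isClosed_basicOpen {R : Type u} [CommRing R] (h : ∀ p : Ideal R, p.IsPrime → p.IsMaximal) (f : R) :
    IsClosed (PrimeSpectrum.basicOpen f : Set (PrimeSpectrum R)) := by
  rw [← isOpen_compl_iff, isOpen_iff_forall_mem_open]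
  intro p hp
  have hp' : f ∈ p.asIdeal := by simpa using hp
  obtain ⟨s, hs, n, hsn⟩ : ∃ s, s ∉ p.asIdeal ∧ ∃ n : ℕ, s * f ^ n = 0 := by
    by_contra hc
    push Not at hc
    let M : Submonoid R := p.asIdeal.primeCompl ⊔ Submonoid.powers f
    have hd : Disjoint ((⊥ : Ideal R) : Set R) M := by
      refine Set.disjoint_left.2 fun x hx hxM => ?_
      obtain ⟨a, ha, b, ⟨m, rfl⟩, rfl⟩ := Submonoid.mem_sup.1 hxM
      exact hc a ha m (by simpa using hx)
    obtain ⟨q, hq, -, hqd⟩ := Ideal.exists_le_prime_disjoint ⊥ M hd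
    have hle : q ≤ p.asIdeal := fun x hx => by
      by_contra hxp
      exact Set.disjoint_left.1 hqd hx (Submonoid.mem_sup_left hxp)
    have hqp : q = p.asIdeal := (h q hq).eq_of_le p.isPrime.ne_top hle
    exact Set.disjoint_left.1 hqd (hqp ▸ hp') (Submonoid.mem_sup_right (Submonoid.mem_powers f))
  refine ⟨PrimeSpectrum.basicOpen s, fun q hq hqf => ?_, PrimeSpectrum.isOpen_basicOpen, hs⟩
  have h0 : s * f ^ n ∈ q.asIdeal := hsn ▸ q.asIdeal.zero_mem
  exact (q.isPrime.mem_or_mem h0).elim (fun h1 => hq h1) (fun h1 => hqf (q.isPrime.mem_of_pow_mem n h1))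

variable {S : Scheme.{u}}

theorem exists_clopen_nhd [IsAffine S] (h1 : ∀ s : S, IsClosed ({s} : Set S)) {x : S} {U : Set S}
    (hU : IsOpen U) (hx : x ∈ U) : ∃ W : S.Opens, IsClosed (W : Set S) ∧ x ∈ W ∧ (W : Set S) ⊆ U := by
  let e := S.isoSpec.hom.homeomorph
  have hmax : ∀ p : Ideal Γ(S, ⊤), p.IsPrime → p.IsMaximal := fun p hp => by
    have hc := e.isClosedMap _ (h1 (e.symm ⟨p, hp⟩))
    rw [Set.image_singleton, e.apply_symm_apply] at hc
    exact (PrimeSpectrum.isClosed_singleton_iff_isMaximal _).1 hc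
  obtain ⟨_, ⟨f, rfl⟩, hxf, hfU⟩ := PrimeSpectrum.isTopologicalBasis_basic_opens.exists_subset_of_mem_open
    (show e x ∈ e '' U from ⟨x, hx, rfl⟩) (e.isOpenMap U hU)
  let W : S.Opens := ⟨e ⁻¹' (PrimeSpectrum.basicOpen f : Set (PrimeSpectrum Γ(S, ⊤))),
    (PrimeSpectrum.isOpen_basicOpen).preimage e.continuous⟩
  refine ⟨W, (isClosed_basicOpen hmax f).preimage e.continuous, hxf, fun y hy => ?_⟩
  obtain ⟨z, hz, hzy⟩ := hfU hy
  exact e.injective hzy ▸ hz

theorem t2Space [IsAffine S] (h1 : ∀ s : S, IsClosed ({s} : Set S)) : T2Space S := by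
  refine ⟨fun x y hxy => ?_⟩
  obtain ⟨W, hW, hxW, hWy⟩ := exists_clopen_nhd h1 (h1 y).isOpen_compl (show x ∈ ({y} : Set S)ᶜ from hxy)
  exact ⟨W, (W : Set S)ᶜ, W.isOpen, hW.isOpen_compl, hxW, fun h => hWy h rfl, disjoint_compl_right⟩

theorem locallyQuasiFinite {Z : Scheme.{u}} (f : Z ⟶ S) [Etale f] : LocallyQuasiFinite f := by
  refine ⟨fun {U} hU {V} hV e => ?_⟩
  have h := HasRingHomProperty.appLE @Etale f ‹_› ⟨U, hU⟩ ⟨V, hV⟩ e
  algebraize [(f.appLE U V e).hom]
  exact inferInstanceAs (Algebra.QuasiFinite Γ(S, U) Γ(Z, V))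

theorem residueFieldMap_surjective {Z : Scheme.{u}} (f : Z ⟶ S) [Etale f] (z : Z)
    [IsSepClosed (S.residueField (f z))] : Function.Surjective (f.residueFieldMap z).hom := by
  letI : Algebra (S.residueField (f.base z)) (Z.residueField z) := (f.residueFieldMap z).hom.toAlgebra
  haveI : IsSepClosed (S.residueField (f.base z)) := ‹_›
  exact IsSepClosed.algebraMap_surjective (S.residueField (f.base z)) (Z.residueField z)

theorem point_mem_diagonal {Z : Scheme.{u}} (f : Z ⟶ S) [Etale f] (z : Z) [IsSepClosed (S.residueField (f z))]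
    (p : ↥(pullback f f)) (hp₁ : pullback.fst f f p = z) (hp₂ : pullback.snd f f p = z) :
    p ∈ Set.range (pullback.diagonal f) := by
  let K := (pullback f f).residueField p
  let ξ : Spec K ⟶ pullback f f := (pullback f f).fromSpecResidueField p
  have hξ : ∀ q, ξ q = p := fun q => Scheme.fromSpecResidueField_apply _ _
  have ha : ∃ α : Z.residueField z ⟶ K, Spec.map α ≫ Z.fromSpecResidueField z = ξ ≫ pullback.fst f f := by
    subst hp₁
    exact ⟨_, (pullback.fst f f).SpecMap_residueFieldMap_fromSpecResidueField p⟩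
  have hb : ∃ β : Z.residueField z ⟶ K, Spec.map β ≫ Z.fromSpecResidueField z = ξ ≫ pullback.snd f f := by
    subst hp₂
    exact ⟨_, (pullback.snd f f).SpecMap_residueFieldMap_fromSpecResidueField p⟩
  obtain ⟨α, hα⟩ := ha
  obtain ⟨β, hβ⟩ := hb
  have hab : f.residueFieldMap z ≫ α = f.residueFieldMap z ≫ β := by
    refine Spec.map_injective ((cancel_mono (S.fromSpecResidueField (f z))).1 ?_)
    rw [Spec.map_comp, Spec.map_comp, Category.assoc, Category.assoc,
      f.SpecMap_residueFieldMap_fromSpecResidueField z, reassoc_of% hα, reassoc_of% hβ, pullback.condition]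
  obtain rfl : α = β := by
    ext y
    obtain ⟨x, rfl⟩ := residueFieldMap_surjective f z y
    exact ConcreteCategory.congr_hom hab x
  have hd : ξ = (Spec.map α ≫ Z.fromSpecResidueField z) ≫ pullback.diagonal f := by
    refine pullback.hom_ext ?_ ?_
    · rw [Category.assoc, pullback.diagonal_fst, Category.comp_id, hα]
    · rw [Category.assoc, pullback.diagonal_snd, Category.comp_id, hβ]
  haveI : Nonempty (Spec K) := inferInstanceAs (Nonempty (PrimeSpectrum K))
  obtain ⟨q⟩ := ‹Nonempty (Spec K)›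
  exact ⟨(Spec.map α ≫ Z.fromSpecResidueField z) q, ((congrArg (fun m => m q) hd).symm.trans (hξ q))⟩

/-- A finite point separated neighbourhood on which an étale morphism is an open immersion. -/
theorem exists_openImmersion_nhd [IsAffine S] (h1 : ∀ s : S, IsClosed ({s} : Set S))
    (h2 : ∀ s : S, IsSepClosed (S.residueField s)) {Z : Scheme.{u}} (f : Z ⟶ S) [Etale f] (z : Z) :
    ∃ O : Z.Opens, z ∈ O ∧ IsOpenImmersion (O.ι ≫ f) := by
  haveI := t2Space h1
  haveI : LocallyQuasiFinite f := locallyQuasiFinite f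
  have hcl : ∀ a : Z, IsClosed ({a} : Set Z) := fun a => by
    refine closure_subset_iff_isClosed.1 fun b hb => ?_
    have hfb : f b = f a := by
      have hs := (specializes_iff_mem_closure.2 hb).map f.continuous
      exact hs.eq.symm
    haveI := (f.isDiscrete_preimage_singleton (f a)).to_subtype
    obtain ⟨V, hV, hVeq⟩ := (isOpen_induced_iff).1
      (isOpen_discrete ({(⟨b, hfb⟩ : ↥(f ⁻¹' {f a}))} : Set ↥(f ⁻¹' {f a})))
    have haV : a ∈ V := (specializes_iff_mem_closure.2 hb).mem_open hV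
      (show (⟨b, hfb⟩ : ↥(f ⁻¹' {f a})) ∈ Subtype.val ⁻¹' V from hVeq ▸ Set.mem_singleton _)
    have : (⟨a, rfl⟩ : ↥(f ⁻¹' {f a})) ∈ ({⟨b, hfb⟩} : Set ↥(f ⁻¹' {f a})) := hVeq ▸ haV
    exact (congrArg Subtype.val (Set.mem_singleton_iff.1 this)).symm
  obtain ⟨O₀, hO₀, hzO₀, -⟩ := exists_isAffineOpen_mem_and_subset (X := Z) (x := z) (U := ⊤) trivial
  haveI : IsAffine (O₀ : Scheme.{u}) := hO₀
  let F : Set Z := ((f ⁻¹' {f z}) ∩ (O₀ : Set Z)) \ {z}
  have hfin : F.Finite := by
    haveI : QuasiCompact (O₀.ι ≫ f) := inferInstance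
    have h := ((O₀.ι ≫ f).finite_preimage_singleton (f z)).image O₀.ι
    refine h.subset fun a ha => ?_
    exact ⟨⟨a, ha.1.2⟩, ha.1.1, rfl⟩
  have hFc : IsClosed F := by
    rw [← Set.biUnion_of_singleton F]
    exact hfin.isClosed_biUnion fun a _ => hcl a
  obtain ⟨O₁, hO₁, hzO₁, hsub⟩ := exists_isAffineOpen_mem_and_subset (X := Z) (x := z)
    (U := O₀ ⊓ ⟨Fᶜ, hFc.isOpen_compl⟩) ⟨hzO₀, fun h => h.2 rfl⟩
  haveI : IsAffine (O₁ : Scheme.{u}) := hO₁
  let g : (O₁ : Scheme.{u}) ⟶ S := O₁.ι ≫ f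
  haveI : Etale g := inferInstance
  have huniq : ∀ a : (O₁ : Scheme.{u}), g a = f z → a = (⟨z, hzO₁⟩ : (O₁ : Scheme.{u})) := fun a ha => by
    refine Subtype.ext (Classical.byContradiction fun hne => ?_)
    exact (hsub a.2).2 ⟨⟨ha, (hsub a.2).1⟩, hne⟩
  haveI : IsAffine (pullback g g) := inferInstance
  let C : Set ↥(pullback g g) := (Set.range (pullback.diagonal g))ᶜ
  haveI : FormallyUnramified g := inferInstance
  have hC : IsCompact C :=
    ((pullback.diagonal g).isOpenEmbedding.isOpen_range.isClosed_compl).isCompact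
  have hxC : f z ∉ (pullback.fst g g ≫ g) '' C := by
    rintro ⟨p, hp, hpx⟩
    haveI : IsSepClosed (S.residueField (g (⟨z, hzO₁⟩ : (O₁ : Scheme.{u})))) := h2 _
    refine hp (point_mem_diagonal g (⟨z, hzO₁⟩ : (O₁ : Scheme.{u})) p (huniq _ hpx) (huniq _ ?_))
    exact ((congrArg (fun m : pullback g g ⟶ S => m p) (pullback.condition (f := g) (g := g))).symm).trans hpx
  obtain ⟨W, -, hxW, hW⟩ := exists_clopen_nhd h1
    ((hC.image (pullback.fst g g ≫ g).continuous).isClosed.isOpen_compl) hxC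
  let O : Z.Opens := O₁ ⊓ f ⁻¹ᵁ W
  have hle : O ≤ O₁ := inf_le_left
  let g' : (O : Scheme.{u}) ⟶ S := O.ι ≫ f
  refine ⟨O, ⟨hzO₁, hxW⟩, ?_⟩
  have hg' : Z.homOfLE hle ≫ g = g' := by rw [← Category.assoc, Scheme.homOfLE_ι]
  haveI : UniversallyInjective g' := by
    rw [UniversallyInjective.iff_diagonal]
    refine ⟨fun p => ?_⟩
    let m : pullback g' g' ⟶ pullback g g := pullback.map _ _ _ _ (Z.homOfLE hle) (Z.homOfLE hle) (𝟙 S)
      (by rw [Category.comp_id, hg']) (by rw [Category.comp_id, hg'])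
    have hmC : m p ∉ C := fun hmc => by
      have e : (pullback.fst g g ≫ g) (m p) = g' (pullback.fst g' g' p) := by
        rw [← Scheme.Hom.comp_apply, ← Scheme.Hom.comp_apply]
        refine congrArg (fun r : pullback g' g' ⟶ S => r p) ?_
        rw [pullback.lift_fst_assoc, Category.assoc, hg']
      exact hW (e.symm ▸ (pullback.fst g' g' p).2.2 : (pullback.fst g g ≫ g) (m p) ∈ W) ⟨m p, hmc, rfl⟩
    obtain ⟨q, hq⟩ := Set.notMem_compl_iff.1 hmC
    have e₁ : (pullback.fst g' g' p).1 = q.1 := by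
      have := congrArg (fun r => (pullback.fst g g r).1) hq
      rw [← Scheme.Hom.comp_apply, pullback.diagonal_fst] at this
      refine Eq.trans ?_ this.symm
      rw [← Scheme.Hom.comp_apply, pullback.lift_fst, Scheme.Hom.comp_apply]
      simp
    have e₂ : (pullback.snd g' g' p).1 = q.1 := by
      have := congrArg (fun r => (pullback.snd g g r).1) hq
      rw [← Scheme.Hom.comp_apply, pullback.diagonal_snd] at this
      refine Eq.trans ?_ this.symm
      rw [← Scheme.Hom.comp_apply, pullback.lift_snd, Scheme.Hom.comp_apply]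
      simp
    haveI : IsSepClosed (S.residueField (g' (pullback.fst g' g' p))) := h2 _
    exact point_mem_diagonal g' (pullback.fst g' g' p) p rfl (Subtype.ext (e₂.trans e₁.symm))
  exact FEtLib.isOpenImmersion_of_etale_universallyInjective g'

end Groth.Agent.EtZeroDim
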