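import Groth.Agent.EtZeroDim.Basic
import Groth.Agent.EtCechLib.Cartan

/-!
# Vanishing of étale cohomology in dimension zero with separably closed residue fields
-/

set_option autoImplicit false
set_option linter.all false
set_option backward.isDefEq.respectTransparency.types false
set_option backward.isDefEq.respectTransparency false
set_option backward.defeqAttrib.useBackward true
set_option synthInstance.maxHeartbeats 400000
set_option maxHeartbeats 1000000

universe u

open CategoryTheory Limits AlgebraicGeometry Opposite CategoryTheory.Abelian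

namespace Groth.Agent.EtZeroDim

variable {S : Scheme.{u}} [IsAffine S] (h1 : ∀ s : S, IsClosed ({s} : Set S))
  (h2 : ∀ s : S, IsSepClosed (S.residueField s))

/-- An open subscheme as an object of the small étale site. -/
noncomputable abbrev piece (W : S.Opens) : S.Etale := Scheme.Etale.mk (W.ι ≫ 𝟙 S)

/-- The inclusion of an open subscheme. -/
noncomputable abbrev pieceHom (W : S.Opens) : piece W ⟶ EtCoh.top S :=
  MorphismProperty.Over.homMk W.ι rfl trivial

omit [IsAffine S] in
theorem subsingleton_sections_of_isEmpty (F : EtCoh.Ab S) (Z : S.Etale) [IsEmpty Z.left] :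
    Subsingleton (F.obj.obj (op Z)) := by
  refine ⟨fun s t => EtCechLib.ext_of_cover F (ι := PEmpty.{u + 2}) (Y := fun i => i.elim) (fun i => i.elim) ?_
    (fun i => i.elim)⟩
  exact HenselLib.Kummer.mem_of_points Z _ fun x => isEmptyElim x

include h1 h2 in
theorem exists_piece_mem {T : Sieve (EtCoh.top S)} (hT : T ∈ S.smallEtaleTopology (EtCoh.top S)) (x : S) :
    ∃ W : S.Opens, IsClosed (W : Set S) ∧ x ∈ W ∧ ∀ V : S.Opens, V ≤ W → T.arrows (pieceHom V) := by
  obtain ⟨Z, f, hf, z, hz⟩ := EtCechLib.exists_mem_of_mem hT (x : (EtCoh.top S).left)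
  let g : Z.left ⟶ S := f.left
  haveI : Etale Z.hom := Z.prop
  have hg : g = Z.hom := (Category.comp_id _).symm.trans (CategoryTheory.Over.w f.hom)
  haveI : Etale g := hg ▸ Z.prop
  obtain ⟨O, hzO, hO⟩ := exists_openImmersion_nhd h1 h2 g z
  obtain ⟨W, hW, hxW, hWsub⟩ := exists_clopen_nhd h1 (O.ι ≫ g).isOpenEmbedding.isOpen_range
    (show x ∈ Set.range (O.ι ≫ g) from ⟨⟨z, hzO⟩, hz⟩)
  refine ⟨W, hW, hxW, fun V hV => ?_⟩
  have hr : Set.range V.ι ⊆ Set.range (O.ι ≫ g) := by
    rw [Scheme.Opens.range_ι]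
    exact fun a ha => hWsub (hV ha)
  let l := IsOpenImmersion.lift (O.ι ≫ g) V.ι hr
  have hl : (l ≫ O.ι) ≫ g = V.ι := (Category.assoc _ _ _).trans (IsOpenImmersion.lift_fac _ _ hr)
  let a : piece V ⟶ Z := MorphismProperty.Over.homMk (l ≫ O.ι)
    (by
      show (l ≫ O.ι) ≫ Z.hom = V.ι ≫ 𝟙 S
      rw [Category.comp_id, ← hg, hl]) trivial
  have e : a ≫ f = pieceHom V :=
    (Scheme.Etale.forget S ⋙ CategoryTheory.Over.forget S).map_injective hl
  exact e ▸ T.downward_closed hf a

include h1 h2 in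
/-- Epimorphisms of sheaves are surjective on global sections. -/
theorem surjective_sections_top {F G : EtCoh.Ab S} (g : F ⟶ G) [Epi g] :
    Function.Surjective (g.hom.app (op (EtCoh.top S))) := by
  classical
  intro x
  obtain ⟨T, hT, hlift⟩ := EtCechLib.exists_local_lift g x
  choose W hW hxW hWT using exists_piece_mem h1 h2 hT
  obtain ⟨s, hs⟩ := isCompact_univ.elim_finite_subcover (fun a : S => (W a : Set S)) (fun a => (W a).isOpen)
    (fun a _ => Set.mem_iUnion.2 ⟨a, hxW a⟩)
  let e := s.equivFin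
  let Wf : Fin s.card → S.Opens := fun i => W (e.symm i).1
  let C : Fin s.card → S.Opens := fun i =>
    ⟨(Wf i : Set S) \ ⋃ j : {j // j < i}, (Wf j.1 : Set S),
      (Wf i).isOpen.sdiff (isClosed_iUnion_of_finite fun j => hW _)⟩
  have hdisj : ∀ i j, ∀ a : S, a ∈ C i → a ∈ C j → i = j := by
    intro i j a hi hj
    rcases lt_trichotomy i j with h | h | h
    · exact absurd (Set.mem_iUnion.2 ⟨⟨i, h⟩, hi.1⟩) hj.2
    · exact h
    · exact absurd (Set.mem_iUnion.2 ⟨⟨j, h⟩, hj.1⟩) hi.2
  have hcov : ∀ a : S, ∃ i, a ∈ C i := fun a => by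
    obtain ⟨b, hb, hab⟩ := Set.mem_iUnion₂.1 (hs (Set.mem_univ a))
    have hne : (Finset.univ.filter fun i => a ∈ Wf i).Nonempty :=
      ⟨e ⟨b, hb⟩, by simpa [Wf] using hab⟩
    refine ⟨(Finset.univ.filter fun i => a ∈ Wf i).min' hne,
      (Finset.mem_filter.1 (Finset.min'_mem _ hne)).2, fun hu => ?_⟩
    obtain ⟨⟨j, hj⟩, haj⟩ := Set.mem_iUnion.1 hu
    exact not_lt.2 (Finset.min'_le _ j (Finset.mem_filter.2 ⟨Finset.mem_univ _, haj⟩)) hj
  let π : ∀ i : ULift.{u + 1} (Fin s.card), piece (C i.down) ⟶ EtCoh.top S := fun i => pieceHom (C i.down)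
  choose y hy using fun i : ULift.{u + 1} (Fin s.card) =>
    hlift (π i) (hWT (e.symm i.down).1 (C i.down) (fun a ha => ha.1))
  have hmem : Sieve.ofArrows (fun i : ULift.{u + 1} (Fin s.card) => piece (C i.down)) π ∈
      S.smallEtaleTopology (EtCoh.top S) :=
    HenselLib.Kummer.mem_of_points _ _ fun a => by
      obtain ⟨i, hi⟩ := hcov a
      exact ⟨_, π ⟨i⟩, (⟨a, hi⟩ : (C i : Scheme.{u})), Sieve.ofArrows_mk _ _ _, rfl⟩
  obtain ⟨t, ht, -⟩ := EtCechLib.existsUnique_amalgamation F π hmem y fun i j Z gi gj hij => by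
    by_cases h : i = j
    · subst h
      haveI : Mono (pieceHom (C i.down)) := ⟨fun a b hab =>
        (Scheme.Etale.forget S ⋙ CategoryTheory.Over.forget S).map_injective
          ((cancel_mono (C i.down).ι).1 (congrArg (fun m : _ ⟶ EtCoh.top S => m.left) hab))⟩
      rw [(cancel_mono (pieceHom (C i.down))).1 hij]
    · haveI : IsEmpty Z.left := ⟨fun p => by
        have e₂ : (gi.left p).1 = (gj.left p).1 :=
          congrArg (fun m : Z ⟶ EtCoh.top S => m.left p) hij
        exact h (ULift.ext _ _ (hdisj _ _ (gi.left p).1 (gi.left p).2 (e₂ ▸ (gj.left p).2)))⟩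
      exact @Subsingleton.elim _ (subsingleton_sections_of_isEmpty F Z) _ _
  refine ⟨t, EtCechLib.ext_of_cover G π hmem fun i => ?_⟩
  rw [← hy i, ← ht i]
  exact (NatTrans.naturality_apply g.hom (π i).op t).symm

include h1 h2 in
theorem subsingleton_ext (F : EtCoh.Ab S) (n : ℕ) :
    Subsingleton (Ext.{u + 1} (EtCoh.const S ℤ) F (n + 1)) :=
  SiteCoh.subsingleton_ext_of_class (fun _ : EtCoh.Ab S => True) (fun Y => Y = EtCoh.const S ℤ)
    (fun G _ => ⟨_, _, _, _, (SiteCoh.injEmbed G).zero, inferInstanceAs (Injective (Injective.under G)),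
      SiteCoh.injEmbed_shortExact G, trivial,
      fun _ hY => hY ▸ fun a => by
        haveI := (SiteCoh.injEmbed_shortExact G).epi_g
        exact EtCechLib.exists_lift_const (EtCore.topIsTerminal S) (SiteCoh.injEmbed G).g
          (surjective_sections_top h1 h2 (SiteCoh.injEmbed G).g) a⟩)
    (X := EtCoh.const S ℤ) rfl trivial n

end Groth.Agent.EtZeroDim
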